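import Groth.Prelude.Def_CycAlg
import Mathlib.RingTheory.Length
import Mathlib.LinearAlgebra.Isomorphisms
import Mathlib.RingTheory.Ideal.AssociatedPrime.Finiteness
import Mathlib.RingTheory.Support
import Mathlib.RingTheory.Ideal.Operations
import Mathlib.Algebra.Module.Submodule.Pointwise
import Mathlib.RingTheory.LocalRing.MaximalIdeal.Basic
import Mathlib.RingTheory.SimpleModule.Basic
import Mathlib.RingTheory.KrullDimension.Module

/-! Herbrand quotients of periodic complexes. -/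

set_option autoImplicit false
set_option linter.unusedSectionVars false
set_option linter.unusedVariables false
set_option linter.style.haveILetI false

universe u v

namespace Groth.Agent.CycAlg50

open LinearMap CycAlg
open scoped Pointwise

variable {R : Type u} [CommRing R]

section Length

variable {A B C : Type v} [AddCommGroup A] [Module R A] [AddCommGroup B] [Module R B] [AddCommGroup C]
  [Module R C]

theorem length_range_le_dom (f : A →ₗ[R] B) : Module.length R (range f) ≤ Module.length R A :=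
  Module.length_le_of_surjective f.rangeRestrict f.surjective_rangeRestrict

theorem length_range_le_cod (f : A →ₗ[R] B) : Module.length R (range f) ≤ Module.length R B :=
  Module.length_le_of_injective (range f).subtype Subtype.val_injective

theorem length_eq_ker_add_range (g : B →ₗ[R] C) :
    Module.length R B = Module.length R (ker g) + Module.length R (range g) :=
  Module.length_eq_add_of_exact (ker g).subtype g.rangeRestrict Subtype.val_injective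
    g.surjective_rangeRestrict (LinearMap.exact_iff.2 (by rw [ker_rangeRestrict, Submodule.range_subtype]))

theorem length_mid {f : A →ₗ[R] B} {g : B →ₗ[R] C} (h : Function.Exact f g) :
    Module.length R B = Module.length R (range f) + Module.length R (range g) := by
  rw [length_eq_ker_add_range g, exact_iff.1 h]

theorem toNat_add {a b : ℕ∞} (ha : a < ⊤) (hb : b < ⊤) : (a + b).toNat = a.toNat + b.toNat :=
  ENat.toNat_add ha.ne hb.ne

end Length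

section Hexagon

variable {M₁ N₁ M₂ N₂ M₃ N₃ : Type v} [AddCommGroup M₁] [Module R M₁] [AddCommGroup N₁] [Module R N₁]
  [AddCommGroup M₂] [Module R M₂] [AddCommGroup N₂] [Module R N₂] [AddCommGroup M₃] [Module R M₃]
  [AddCommGroup N₃] [Module R N₃]
variable {φ₁ : M₁ →ₗ[R] N₁} {ψ₁ : N₁ →ₗ[R] M₁} {φ₂ : M₂ →ₗ[R] N₂} {ψ₂ : N₂ →ₗ[R] M₂}
  {φ₃ : M₃ →ₗ[R] N₃} {ψ₃ : N₃ →ₗ[R] M₃}

/-- Class of a cycle. -/
abbrev cls (φ : M₁ →ₗ[R] N₁) (ψ : N₁ →ₗ[R] M₁) (x : ker φ) : perH φ ψ := Submodule.Quotient.mk x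

theorem cls_eq_zero_iff (x : ker φ₁) : cls φ₁ ψ₁ x = 0 ↔ (x : M₁) ∈ range ψ₁ :=
  Submodule.Quotient.mk_eq_zero _

theorem cls_eq_iff (x y : ker φ₁) : cls φ₁ ψ₁ x = cls φ₁ ψ₁ y ↔ (x : M₁) - y ∈ range ψ₁ :=
  Submodule.Quotient.eq _

theorem cls_surjective : Function.Surjective (cls φ₁ ψ₁) := Submodule.Quotient.mk_surjective _

/-- Functoriality of `perH`. -/
noncomputable def Hmap (f : M₁ →ₗ[R] M₂) (g : N₁ →ₗ[R] N₂) (cφ : φ₂ ∘ₗ f = g ∘ₗ φ₁)
    (cψ : ψ₂ ∘ₗ g = f ∘ₗ ψ₁) : perH φ₁ ψ₁ →ₗ[R] perH φ₂ ψ₂ :=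
  Submodule.mapQ _ _
    (f.restrict (p := ker φ₁) (q := ker φ₂) fun x hx => by
      rw [mem_ker] at hx ⊢
      rw [← comp_apply φ₂ f, cφ, comp_apply, hx, map_zero])
    fun x hx => by
      obtain ⟨z, hz⟩ := hx
      refine ⟨g z, ?_⟩
      show ψ₂ (g z) = f (x : M₁)
      rw [← comp_apply ψ₂ g, cψ, comp_apply, hz]
      rfl

theorem Hmap_cls (f : M₁ →ₗ[R] M₂) (g : N₁ →ₗ[R] N₂) (cφ : φ₂ ∘ₗ f = g ∘ₗ φ₁)
    (cψ : ψ₂ ∘ₗ g = f ∘ₗ ψ₁) (x : ker φ₁) :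
    Hmap f g cφ cψ (cls φ₁ ψ₁ x) = cls φ₂ ψ₂ ⟨f x, by
      rw [mem_ker, ← comp_apply φ₂ f, cφ, comp_apply, mem_ker.1 x.2, map_zero]⟩ := rfl

variable {f₁ : M₁ →ₗ[R] M₂} {g₁ : N₁ →ₗ[R] N₂} {f₂ : M₂ →ₗ[R] M₃} {g₂ : N₂ →ₗ[R] N₃}

theorem exact_mid (cφ₁ : φ₂ ∘ₗ f₁ = g₁ ∘ₗ φ₁) (cψ₁ : ψ₂ ∘ₗ g₁ = f₁ ∘ₗ ψ₁)
    (cφ₂ : φ₃ ∘ₗ f₂ = g₂ ∘ₗ φ₂) (cψ₂ : ψ₃ ∘ₗ g₂ = f₂ ∘ₗ ψ₂) (h₂ : φ₂ ∘ₗ ψ₂ = 0)
    (hg₁ : Function.Injective g₁) (hg₂ : Function.Surjective g₂) (hM : range f₁ = ker f₂) :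
    Function.Exact (Hmap f₁ g₁ cφ₁ cψ₁) (Hmap f₂ g₂ cφ₂ cψ₂) := by
  intro c
  constructor
  · intro hc
    obtain ⟨x, rfl⟩ := cls_surjective c
    rw [Hmap_cls, cls_eq_zero_iff] at hc
    obtain ⟨z₃, hz₃⟩ := hc
    obtain ⟨z, rfl⟩ := hg₂ z₃
    have hmem : (x : M₂) - ψ₂ z ∈ ker f₂ := by
      rw [mem_ker, map_sub, ← comp_apply f₂ ψ₂, ← cψ₂, comp_apply, hz₃, sub_self]
    rw [← hM] at hmem
    obtain ⟨y, hy⟩ := hmem
    have hy0 : φ₁ y = 0 := by
      apply hg₁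
      rw [map_zero, ← comp_apply g₁ φ₁, ← cφ₁, comp_apply, hy, map_sub, mem_ker.1 x.2, zero_sub,
        ← comp_apply φ₂ ψ₂, h₂, LinearMap.zero_apply, neg_zero]
    refine ⟨cls φ₁ ψ₁ ⟨y, mem_ker.2 hy0⟩, ?_⟩
    rw [Hmap_cls, cls_eq_iff]
    refine ⟨-z, ?_⟩
    show ψ₂ (-z) = f₁ y - x
    rw [hy, map_neg]; abel
  · rintro ⟨c, rfl⟩
    obtain ⟨x, rfl⟩ := cls_surjective c
    rw [Hmap_cls, Hmap_cls, cls_eq_zero_iff]
    have : f₁ (x : M₁) ∈ ker f₂ := hM ▸ ⟨_, rfl⟩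
    exact ⟨0, by rw [map_zero]; exact (mem_ker.1 this).symm⟩

variable (φ₁ ψ₁ φ₂ φ₃ ψ₃ f₁ g₁ f₂ g₂) in
/-- The connecting map of a short exact sequence of periodic complexes. -/
theorem exists_delta (cφ₁ : φ₂ ∘ₗ f₁ = g₁ ∘ₗ φ₁) (cψ₁ : ψ₂ ∘ₗ g₁ = f₁ ∘ₗ ψ₁)
    (cφ₂ : φ₃ ∘ₗ f₂ = g₂ ∘ₗ φ₂) (cψ₂ : ψ₃ ∘ₗ g₂ = f₂ ∘ₗ ψ₂) (h₂ : φ₂ ∘ₗ ψ₂ = 0)
    (h₂' : ψ₂ ∘ₗ φ₂ = 0) (hf₁ : Function.Injective f₁) (hg₁ : Function.Injective g₁)
    (hf₂ : Function.Surjective f₂) (hg₂ : Function.Surjective g₂) (hM : range f₁ = ker f₂)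
    (hN : range g₁ = ker g₂) :
    ∃ δ : perH φ₃ ψ₃ →ₗ[R] perH ψ₁ φ₁,
      Function.Exact (Hmap f₂ g₂ cφ₂ cψ₂) δ ∧ Function.Exact δ (Hmap g₁ f₁ cψ₁ cφ₁) := by
  let K : Submodule R M₂ := (ker φ₃).comap f₂
  let e := LinearEquiv.ofInjective g₁ hg₁
  have hr : ∀ x : K, φ₂ x.1 ∈ range g₁ := fun x => by
    rw [hN, mem_ker, ← comp_apply g₂ φ₂, ← cφ₂, comp_apply]
    exact x.2
  let pre0 : K →ₗ[R] N₁ := e.symm.toLinearMap ∘ₗ (φ₂ ∘ₗ K.subtype).codRestrict _ hr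
  have hpre0 : ∀ x : K, g₁ (pre0 x) = φ₂ x.1 := fun x =>
    (LinearEquiv.ofInjective_apply g₁ (pre0 x)).symm.trans
      (congrArg Subtype.val (e.apply_symm_apply _))
  have hker : ∀ x : K, pre0 x ∈ ker ψ₁ := fun x => by
    rw [mem_ker]
    apply hf₁
    rw [map_zero, ← comp_apply f₁ ψ₁, ← cψ₁, comp_apply, hpre0, ← comp_apply ψ₂ φ₂, h₂',
      LinearMap.zero_apply]
  let pre : K →ₗ[R] perH ψ₁ φ₁ := Submodule.mkQ _ ∘ₗ pre0.codRestrict _ hker
  let q : K →ₗ[R] perH φ₃ ψ₃ :=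
    Submodule.mkQ _ ∘ₗ (f₂.restrict (p := K) (q := ker φ₃) fun _ hx => hx)
  have hq : Function.Surjective q := by
    intro c
    obtain ⟨x₃, rfl⟩ := cls_surjective c
    obtain ⟨x, hx⟩ := hf₂ x₃.1
    have hxK : x ∈ K := by
      show f₂ x ∈ ker φ₃
      rw [hx]
      exact x₃.2
    exact ⟨⟨x, hxK⟩, congrArg (cls φ₃ ψ₃) (Subtype.ext hx)⟩
  have hle : ker q ≤ ker pre := by
    intro x hx
    rw [mem_ker] at hx ⊢
    obtain ⟨z₃, hz₃⟩ := (cls_eq_zero_iff _).1 hx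
    obtain ⟨z, rfl⟩ := hg₂ z₃
    have hmem : x.1 - ψ₂ z ∈ ker f₂ := by
      rw [mem_ker, map_sub, ← comp_apply f₂ ψ₂, ← cψ₂, comp_apply, hz₃]
      exact sub_self _
    rw [← hM] at hmem
    obtain ⟨y, hy⟩ := hmem
    refine (cls_eq_zero_iff _).2 ⟨y, hg₁ ?_⟩
    show g₁ (φ₁ y) = g₁ (pre0 x)
    rw [hpre0, ← comp_apply g₁ φ₁, ← cφ₁, comp_apply, hy, map_sub, ← comp_apply φ₂ ψ₂, h₂,
      LinearMap.zero_apply, sub_zero]
  let δ : perH φ₃ ψ₃ →ₗ[R] perH ψ₁ φ₁ :=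
    (ker q).liftQ pre hle ∘ₗ (q.quotKerEquivOfSurjective hq).symm.toLinearMap
  have hδ : ∀ x, δ (q x) = pre x := fun x => by
    show (ker q).liftQ pre hle ((q.quotKerEquivOfSurjective hq).symm (q x)) = _
    rw [show (q.quotKerEquivOfSurjective hq).symm (q x) = Submodule.Quotient.mk x from
      (LinearEquiv.symm_apply_eq _).2 rfl]
    rfl
  refine ⟨δ, fun c => ⟨fun hc => ?_, ?_⟩, fun c => ⟨fun hc => ?_, ?_⟩⟩
  · obtain ⟨x, rfl⟩ := hq c
    rw [hδ] at hc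
    obtain ⟨y, hy⟩ := (cls_eq_zero_iff _).1 hc
    have hmem : x.1 - f₁ y ∈ ker φ₂ := by
      rw [mem_ker, map_sub, ← comp_apply φ₂ f₁, cφ₁, comp_apply, hy]
      show φ₂ x.1 - g₁ (pre0 x) = 0
      rw [hpre0, sub_self]
    have h0 : f₂ (f₁ y) = 0 := mem_ker.1 (hM ▸ ⟨y, rfl⟩ : f₁ y ∈ ker f₂)
    refine ⟨cls φ₂ ψ₂ ⟨_, hmem⟩, congrArg (cls φ₃ ψ₃) (Subtype.ext ?_)⟩
    show f₂ (x.1 - f₁ y) = f₂ x.1
    rw [map_sub, h0, sub_zero]
  · rintro ⟨c, rfl⟩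
    obtain ⟨x, rfl⟩ := cls_surjective c
    have hxK : x.1 ∈ K := by
      show φ₃ (f₂ x.1) = 0
      rw [← comp_apply φ₃ f₂, cφ₂, comp_apply, mem_ker.1 x.2, map_zero]
    have : Hmap f₂ g₂ cφ₂ cψ₂ (cls φ₂ ψ₂ x) = q ⟨x.1, hxK⟩ := rfl
    rw [this, hδ]
    refine (cls_eq_zero_iff _).2 ⟨0, hg₁ ?_⟩
    show g₁ (φ₁ 0) = g₁ (pre0 _)
    rw [hpre0, map_zero, map_zero]
    exact (mem_ker.1 x.2).symm
  · obtain ⟨w, rfl⟩ := cls_surjective c
    rw [Hmap_cls] at hc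
    obtain ⟨x, hx⟩ := (cls_eq_zero_iff _).1 hc
    have hxK : x ∈ K := by
      show φ₃ (f₂ x) = 0
      have : φ₂ x ∈ ker g₂ := hN ▸ ⟨w.1, hx.symm⟩
      rw [← comp_apply φ₃ f₂, cφ₂, comp_apply]
      exact mem_ker.1 this
    refine ⟨q ⟨x, hxK⟩, ?_⟩
    rw [hδ]
    exact congrArg (cls ψ₁ φ₁) (Subtype.ext (hg₁ ((hpre0 _).trans hx)))
  · rintro ⟨c, rfl⟩
    obtain ⟨x, rfl⟩ := hq c
    rw [hδ]
    refine (cls_eq_zero_iff _).2 ⟨x.1, ?_⟩
    exact (hpre0 x).symm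

variable (φ₁ ψ₁ φ₂ ψ₂ φ₃ ψ₃) in
theorem herbrand_shortExact (h₂ : IsPeriodic φ₂ ψ₂) (f₁ : M₁ →ₗ[R] M₂) (g₁ : N₁ →ₗ[R] N₂)
    (f₂ : M₂ →ₗ[R] M₃) (g₂ : N₂ →ₗ[R] N₃) (cφ₁ : φ₂ ∘ₗ f₁ = g₁ ∘ₗ φ₁)
    (cψ₁ : ψ₂ ∘ₗ g₁ = f₁ ∘ₗ ψ₁) (cφ₂ : φ₃ ∘ₗ f₂ = g₂ ∘ₗ φ₂) (cψ₂ : ψ₃ ∘ₗ g₂ = f₂ ∘ₗ ψ₂)
    (hf₁ : Function.Injective f₁) (hg₁ : Function.Injective g₁) (hf₂ : Function.Surjective f₂)
    (hg₂ : Function.Surjective g₂) (hM : range f₁ = ker f₂) (hN : range g₁ = ker g₂)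
    (htwo : (FinCoh R φ₁ ψ₁ ∧ FinCoh R φ₂ ψ₂) ∨ (FinCoh R φ₁ ψ₁ ∧ FinCoh R φ₃ ψ₃) ∨
      (FinCoh R φ₂ ψ₂ ∧ FinCoh R φ₃ ψ₃)) :
    FinCoh R φ₁ ψ₁ ∧ FinCoh R φ₂ ψ₂ ∧ FinCoh R φ₃ ψ₃ ∧
      herbrand R φ₂ ψ₂ = herbrand R φ₁ ψ₁ + herbrand R φ₃ ψ₃ := by
  have eB := length_mid (exact_mid cφ₁ cψ₁ cφ₂ cψ₂ h₂.1 hg₁ hg₂ hM)
  have eE := length_mid (exact_mid cψ₁ cφ₁ cψ₂ cφ₂ h₂.2 hf₁ hf₂ hN)
  obtain ⟨δ, hC, hD⟩ := exists_delta φ₁ ψ₁ φ₂ φ₃ ψ₃ f₁ g₁ f₂ g₂ cφ₁ cψ₁ cφ₂ cψ₂ h₂.1 h₂.2 hf₁ hg₁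
    hf₂ hg₂ hM hN
  obtain ⟨δ', hF, hA⟩ := exists_delta ψ₁ φ₁ ψ₂ ψ₃ φ₃ g₁ f₁ g₂ f₂ cψ₁ cφ₁ cψ₂ cφ₂ h₂.2 h₂.1 hg₁ hf₁
    hg₂ hf₂ hN hM
  have eA := length_mid hA
  have eC := length_mid hC
  have eD := length_mid hD
  have eF := length_mid hF
  generalize Module.length R (range (Hmap f₁ g₁ cφ₁ cψ₁)) = i1 at *
  generalize Module.length R (range (Hmap f₂ g₂ cφ₂ cψ₂)) = i2 at *
  generalize Module.length R (range δ) = i3 at *
  generalize Module.length R (range (Hmap g₁ f₁ cψ₁ cφ₁)) = i4 at *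
  generalize Module.length R (range (Hmap g₂ f₂ cψ₂ cφ₂)) = i5 at *
  generalize Module.length R (range δ') = i6 at *
  unfold FinCoh at htwo ⊢
  unfold herbrand
  rw [eA, eB, eC, eD, eE, eF] at htwo ⊢
  simp only [ENat.add_lt_top] at htwo ⊢
  have hall : (i1 < ⊤ ∧ i2 < ⊤ ∧ i3 < ⊤) ∧ i4 < ⊤ ∧ i5 < ⊤ ∧ i6 < ⊤ := by tauto
  obtain ⟨⟨a1, a2, a3⟩, a4, a5, a6⟩ := hall
  refine ⟨⟨⟨a6, a1⟩, a3, a4⟩, ⟨⟨a1, a2⟩, a4, a5⟩, ⟨⟨a2, a3⟩, a5, a6⟩, ?_⟩
  rw [toNat_add a6 a1, toNat_add a1 a2, toNat_add a2 a3, toNat_add a3 a4, toNat_add a4 a5, toNat_add a5 a6]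
  push_cast
  ring

end Hexagon

section FiniteLength

variable {M N : Type v} [AddCommGroup M] [Module R M] [AddCommGroup N] [Module R N]

theorem length_perH {φ : M →ₗ[R] N} {ψ : N →ₗ[R] M} (h : φ ∘ₗ ψ = 0) :
    Module.length R (ker φ) = Module.length R (range ψ) + Module.length R (perH φ ψ) := by
  have hle : range ψ ≤ ker φ := range_le_ker_iff.2 h
  rw [Module.length_eq_add_of_exact ((range ψ).submoduleOf (ker φ)).subtype
    ((range ψ).submoduleOf (ker φ)).mkQ Subtype.val_injective (Submodule.mkQ_surjective _)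
    (LinearMap.exact_subtype_mkQ _)]
  congr 1
  exact (Submodule.submoduleOfEquivOfLe hle).length_eq

theorem herbrand_eq_length_sub_length {φ : M →ₗ[R] N} {ψ : N →ₗ[R] M} (h : IsPeriodic φ ψ)
    (hM : Module.length R M < ⊤) (hN : Module.length R N < ⊤) :
    FinCoh R φ ψ ∧ herbrand R φ ψ =
      ((Module.length R M).toNat : ℤ) - ((Module.length R N).toNat : ℤ) := by
  have e1 := length_eq_ker_add_range φ
  have e2 := length_eq_ker_add_range ψ
  rw [length_perH h.1] at e1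
  rw [length_perH h.2] at e2
  rw [e1] at hM ⊢
  rw [e2] at hN ⊢
  simp only [ENat.add_lt_top] at hM hN
  obtain ⟨⟨a1, a2⟩, a3⟩ := hM
  obtain ⟨⟨b1, b2⟩, b3⟩ := hN
  refine ⟨⟨a2, b2⟩, ?_⟩
  unfold herbrand
  rw [toNat_add (ENat.add_lt_top.2 ⟨a1, a2⟩) a3, toNat_add a1 a2,
    toNat_add (ENat.add_lt_top.2 ⟨b1, b2⟩) b3, toNat_add b1 b2]
  push_cast
  ring

theorem herbrand_eq_of_finite_ker_coker {M' : Type v} [AddCommGroup M'] [Module R M']
    {φ ψ : M →ₗ[R] M} {φ' ψ' : M' →ₗ[R] M'} (h : IsPeriodic φ ψ) (h' : IsPeriodic φ' ψ')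
    (f : M →ₗ[R] M') (cφ : φ' ∘ₗ f = f ∘ₗ φ) (cψ : ψ' ∘ₗ f = f ∘ₗ ψ) (hfin : FinCoh R φ ψ)
    (hfin' : FinCoh R φ' ψ') (hker : Module.length R (ker f) < ⊤)
    (hcoker : Module.length R (M' ⧸ range f) < ⊤) : herbrand R φ ψ = herbrand R φ' ψ' := by
  have hk : ∀ {χ : M →ₗ[R] M} {χ' : M' →ₗ[R] M'}, χ' ∘ₗ f = f ∘ₗ χ → ∀ x ∈ ker f, χ x ∈ ker f := by
    intro χ χ' c x hx
    rw [mem_ker] at hx ⊢
    rw [← comp_apply f χ, ← c, comp_apply, hx, map_zero]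
  have hr : ∀ {χ : M →ₗ[R] M} {χ' : M' →ₗ[R] M'}, χ' ∘ₗ f = f ∘ₗ χ →
      ∀ y ∈ range f, χ' y ∈ range f := by
    rintro χ χ' c _ ⟨x, rfl⟩
    exact ⟨χ x, by rw [← comp_apply f χ, ← c, comp_apply]⟩
  let φK := φ.restrict (hk cφ)
  let ψK := ψ.restrict (hk cψ)
  let φI := φ'.restrict (hr cφ)
  let ψI := ψ'.restrict (hr cψ)
  let φC := (range f).mapQ (range f) φ' (fun y hy => hr cφ y hy)
  let ψC := (range f).mapQ (range f) ψ' (fun y hy => hr cψ y hy)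
  have hK : IsPeriodic φK ψK :=
    ⟨ext fun x => Subtype.ext (congrArg (fun m => m x.1) h.1),
      ext fun x => Subtype.ext (congrArg (fun m => m x.1) h.2)⟩
  have hI : IsPeriodic φI ψI :=
    ⟨ext fun x => Subtype.ext (congrArg (fun m => m x.1) h'.1),
      ext fun x => Subtype.ext (congrArg (fun m => m x.1) h'.2)⟩
  have hC : IsPeriodic φC ψC := by
    constructor <;> refine Submodule.linearMap_qext _ (ext fun x => ?_)
    · show (Submodule.Quotient.mk ((φ' ∘ₗ ψ') x) : M' ⧸ range f) = 0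
      rw [h'.1]; rfl
    · show (Submodule.Quotient.mk ((ψ' ∘ₗ φ') x) : M' ⧸ range f) = 0
      rw [h'.2]; rfl
  obtain ⟨finK, eK⟩ := herbrand_eq_length_sub_length hK hker hker
  obtain ⟨finC, eC⟩ := herbrand_eq_length_sub_length hC hcoker hcoker
  obtain ⟨-, -, finI, e1⟩ := herbrand_shortExact φK ψK φ ψ φI ψI h (ker f).subtype (ker f).subtype
    f.rangeRestrict f.rangeRestrict rfl rfl
    (ext fun x => Subtype.ext (congrArg (fun m => m x) cφ))
    (ext fun x => Subtype.ext (congrArg (fun m => m x) cψ))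
    Subtype.val_injective Subtype.val_injective f.surjective_rangeRestrict f.surjective_rangeRestrict
    (by rw [Submodule.range_subtype, ker_rangeRestrict]) (by rw [Submodule.range_subtype, ker_rangeRestrict])
    (Or.inl ⟨finK, hfin⟩)
  obtain ⟨-, -, -, e2⟩ := herbrand_shortExact φI ψI φ' ψ' φC ψC h' (range f).subtype (range f).subtype
    (range f).mkQ (range f).mkQ rfl rfl rfl rfl
    Subtype.val_injective Subtype.val_injective (Submodule.mkQ_surjective _) (Submodule.mkQ_surjective _)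
    (by rw [Submodule.range_subtype, Submodule.ker_mkQ]) (by rw [Submodule.range_subtype, Submodule.ker_mkQ])
    (Or.inl ⟨finI, hfin'⟩)
  rw [sub_self] at eK eC
  omega

end FiniteLength

section Nilpotent

variable {M : Type v} [AddCommGroup M] [Module R M] (φ : M →ₗ[R] M) (n : ℕ)

abbrev Hn (p : ℕ) : Type v := perH (φ ^ p) (φ ^ (n - p))

theorem pow_comp_pow (a b c : ℕ) (h : a + b = c) : (φ ^ a) ∘ₗ (φ ^ b) = φ ^ c := by
  rw [← Module.End.mul_eq_comp, ← pow_add, h]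

theorem pow_apply_pow (a b c : ℕ) (h : a + b = c) (x : M) : (φ ^ a) ((φ ^ b) x) = (φ ^ c) x := by
  rw [← comp_apply, pow_comp_pow φ a b c h]

noncomputable def incl {p q : ℕ} (hpq : p ≤ q) (hq : q ≤ n) : Hn φ n p →ₗ[R] Hn φ n q :=
  Hmap LinearMap.id (φ ^ (q - p))
    (by rw [comp_id, pow_comp_pow φ _ _ q (by omega)])
    (by rw [id_comp, pow_comp_pow φ _ _ (n - p) (by omega)])

noncomputable def down {p q : ℕ} (hpq : p ≤ q) (hq : q ≤ n) : Hn φ n q →ₗ[R] Hn φ n p :=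
  Hmap (φ ^ (q - p)) LinearMap.id
    (by rw [id_comp, pow_comp_pow φ _ _ q (by omega)])
    (by rw [comp_id, pow_comp_pow φ _ _ (n - p) (by omega)])

variable {φ n}

theorem exact_T (hφ : φ ^ n = 0) {a b s : ℕ} (hs : a + b = s) (hsn : s ≤ n) :
    Function.Exact (incl φ n (show a ≤ s by omega) hsn) (down φ n (show b ≤ s by omega) hsn) := by
  subst hs
  intro c
  constructor
  · intro hc
    obtain ⟨x, rfl⟩ := cls_surjective c
    rw [down, Hmap_cls, cls_eq_zero_iff] at hc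
    obtain ⟨z, hz⟩ := hc
    change (φ ^ (n - b)) z = (φ ^ (a + b - b)) x.1 at hz
    have hmem : x.1 - (φ ^ (n - (a + b))) z ∈ ker (φ ^ a) := by
      rw [mem_ker, map_sub, pow_apply_pow φ _ _ (n - b) (by omega), hz, Nat.add_sub_cancel, sub_self]
    refine ⟨cls _ _ ⟨_, hmem⟩, ?_⟩
    rw [incl, Hmap_cls, cls_eq_iff]
    exact ⟨-z, by simp⟩
  · rintro ⟨c, rfl⟩
    obtain ⟨x, rfl⟩ := cls_surjective c
    rw [incl, Hmap_cls, down, Hmap_cls, cls_eq_zero_iff]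
    refine ⟨0, ?_⟩
    show (φ ^ (n - b)) 0 = (φ ^ (a + b - b)) x.1
    rw [map_zero, Nat.add_sub_cancel, mem_ker.1 x.2]

theorem exact_U (hφ : φ ^ n = 0) {a b s t : ℕ} (hs : a + b = s) (hsn : s ≤ n) (ht : n - a = t) :
    Function.Exact (down φ n (show b ≤ s by omega) hsn)
      (incl φ n (show b ≤ t by omega) (show t ≤ n by omega)) := by
  subst hs ht
  intro c
  constructor
  · intro hc
    obtain ⟨x, rfl⟩ := cls_surjective c
    rw [incl, Hmap_cls, cls_eq_zero_iff] at hc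
    obtain ⟨y, hy⟩ := hc
    change (φ ^ (n - (n - a))) y = x.1 at hy
    have hmem : y ∈ ker (φ ^ (a + b)) := by
      rw [mem_ker, ← pow_apply_pow φ b (n - (n - a)) (a + b) (by omega), hy, mem_ker.1 x.2]
    refine ⟨cls _ _ ⟨y, hmem⟩, ?_⟩
    rw [down, Hmap_cls, cls_eq_iff]
    refine ⟨0, ?_⟩
    show _ = (φ ^ (a + b - b)) y - x.1
    rw [← hy, show n - (n - a) = a + b - b by omega, sub_self, map_zero]
  · rintro ⟨c, rfl⟩
    obtain ⟨x, rfl⟩ := cls_surjective c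
    rw [down, Hmap_cls, incl, Hmap_cls, cls_eq_zero_iff]
    refine ⟨x.1, ?_⟩
    show (φ ^ (n - (n - a))) x.1 = (φ ^ (a + b - b)) x.1
    rw [show n - (n - a) = a + b - b by omega]

/-- The length of `Hn`. -/
noncomputable def hl (φ : M →ₗ[R] M) (n p : ℕ) : ℕ∞ := Module.length R (Hn φ n p)

open Classical in
noncomputable def lenI (φ : M →ₗ[R] M) (n p q : ℕ) : ℕ∞ :=
  if h : p ≤ q ∧ q ≤ n then Module.length R (range (incl φ n h.1 h.2)) else 0

open Classical in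
noncomputable def lenD (φ : M →ₗ[R] M) (n p q : ℕ) : ℕ∞ :=
  if h : p ≤ q ∧ q ≤ n then Module.length R (range (down φ n h.1 h.2)) else 0

theorem eq_T (hφ : φ ^ n = 0) {a b s : ℕ} (hs : a + b = s) (hsn : s ≤ n) :
    hl φ n s = lenI φ n a s + lenD φ n b s := by
  rw [lenI, lenD, dif_pos ⟨by omega, hsn⟩, dif_pos ⟨by omega, hsn⟩]
  exact length_mid (exact_T hφ hs hsn)

theorem eq_U (hφ : φ ^ n = 0) {a b s t : ℕ} (hs : a + b = s) (hsn : s ≤ n) (ht : n - a = t) :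
    hl φ n b = lenD φ n b s + lenI φ n b t := by
  rw [lenI, lenD, dif_pos ⟨by omega, hsn⟩, dif_pos ⟨by omega, by omega⟩]
  exact length_mid (exact_U hφ hs hsn ht)

theorem length_Hn_zero : hl φ n 0 = 0 := by
  rw [hl, Module.length_eq_zero_iff]
  refine subsingleton_of_forall_eq 0 fun c => ?_
  obtain ⟨x, rfl⟩ := cls_surjective c
  rw [cls_eq_zero_iff]
  have hx : (φ ^ 0) x.1 = 0 := x.2
  simp only [pow_zero, Module.End.one_apply] at hx
  exact ⟨0, by rw [map_zero]; exact hx.symm⟩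

theorem length_Hn_top (hn : 0 ≤ n) : hl φ n n = 0 := by
  rw [hl, Module.length_eq_zero_iff]
  refine subsingleton_of_forall_eq 0 fun c => ?_
  obtain ⟨x, rfl⟩ := cls_surjective c
  rw [cls_eq_zero_iff]
  exact ⟨x.1, by rw [Nat.sub_self, pow_zero]; rfl⟩

theorem herbrand_pow (hn : 0 < n) (hφ : φ ^ n = 0)
    (hfin : Module.length R (perH φ (φ ^ (n - 1))) < ⊤) (i : ℕ) (hi : i ≤ n) :
    FinCoh R (φ ^ i) (φ ^ (n - i)) ∧ herbrand R (φ ^ i) (φ ^ (n - i)) = 0 := by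
  have h1 : hl φ n 1 < ⊤ := by
    unfold hl Hn
    rwa [pow_one]
  have hlt : ∀ j, j ≤ n → hl φ n j < ⊤ := by
    intro j
    induction j with
    | zero => exact fun _ => by rw [length_Hn_zero]; exact ENat.top_pos
    | succ j ih =>
      intro hj
      rw [eq_T hφ (show 1 + j = j + 1 by omega) hj, ENat.add_lt_top]
      rw [lenI, lenD, dif_pos ⟨by omega, hj⟩, dif_pos ⟨by omega, hj⟩]
      exact ⟨(length_range_le_dom _).trans_lt h1, (length_range_le_cod _).trans_lt (ih (by omega))⟩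
  let E : ℕ → ℤ := fun j => ((hl φ n j).toNat : ℤ) -
    ((hl φ n (n - j)).toNat : ℤ)
  have hadd : ∀ j, j + 1 ≤ n → E (j + 1) = E j + E 1 := by
    intro j hj
    obtain ⟨c, hc⟩ : ∃ c, n - (j + 1) = c := ⟨_, rfl⟩
    have A1 := eq_T hφ (show 1 + j = j + 1 by omega) hj
    have A2 := eq_U hφ (show 1 + j = j + 1 by omega) hj (show n - 1 = n - 1 by omega)
    have A3 := eq_T hφ (show j + c = n - 1 by omega) (by omega)
    have A4 := eq_U hφ (show j + c = n - 1 by omega) (by omega) (show n - j = n - j by omega)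
    have A5 := eq_T hφ (show c + 1 = n - j by omega) (by omega)
    have A6 := eq_U hφ (show c + 1 = n - j by omega) (by omega) (show n - c = j + 1 by omega)
    have l1 := hlt (j + 1) hj
    have l2 := hlt j (by omega)
    have l3 := hlt (n - 1) (by omega)
    have l4 := hlt c (by omega)
    have l5 := hlt (n - j) (by omega)
    have l6 := hlt 1 (by omega)
    rw [A1, ENat.add_lt_top] at l1
    rw [A2, ENat.add_lt_top] at l2
    rw [A3, ENat.add_lt_top] at l3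
    rw [A4, ENat.add_lt_top] at l4
    rw [A5, ENat.add_lt_top] at l5
    rw [A6, ENat.add_lt_top] at l6
    simp only [E, hc]
    rw [A1, A2, A3, A4, A5, A6, toNat_add l1.1 l1.2, toNat_add l2.1 l2.2, toNat_add l3.1 l3.2,
      toNat_add l4.1 l4.2, toNat_add l5.1 l5.2, toNat_add l6.1 l6.2]
    push_cast
    ring
  have hE0 : E 0 = 0 := by
    simp only [E, Nat.sub_zero]
    rw [length_Hn_zero, length_Hn_top (Nat.zero_le n), sub_self]
  have hlin : ∀ j, j ≤ n → E j = j * E 1 := by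
    intro j
    induction j with
    | zero => exact fun _ => by rw [hE0]; simp
    | succ j ih => intro hj; rw [hadd j hj, ih (by omega)]; push_cast; ring
  have hEn : E n = 0 := by
    simp only [E]
    rw [Nat.sub_self, length_Hn_zero, length_Hn_top (Nat.zero_le n), sub_self]
  have hE1 : E 1 = 0 := by
    rw [hlin n le_rfl] at hEn
    exact (mul_eq_zero.1 hEn).resolve_left (by exact_mod_cast hn.ne')
  have hswap : Module.length R (perH (φ ^ (n - i)) (φ ^ i)) = hl φ n (n - i) := by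
    unfold hl Hn
    rw [show n - (n - i) = i by omega]
  refine ⟨⟨hlt i hi, by rw [hswap]; exact hlt _ (by omega)⟩, ?_⟩
  have := hlin i hi
  rw [hE1, mul_zero] at this
  unfold herbrand
  rw [hswap]
  exact this

end Nilpotent

section Smul

theorem length_lt_top_of_support [IsNoetherianRing R] {N : Type v} [AddCommGroup N] [Module R N]
    [Module.Finite R N] (h : ∀ p ∈ Module.support R N, p.asIdeal.IsMaximal) :
    Module.length R N < ⊤ := by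
  induction ‹Module.Finite R N› using IsNoetherianRing.induction_on_isQuotientEquivQuotientPrime R with
  | subsingleton N => simp [Module.length_eq_zero]
  | quotient N p e =>
    have hp : p ∈ Module.support R N := by
      rw [e.support_eq, Module.mem_support_iff_of_finite, Ideal.annihilator_quotient]
    have := h p hp
    have hsimp : IsSimpleModule R (R ⧸ p.asIdeal) :=
      isSimpleModule_iff_isCoatom.mpr (Ideal.isMaximal_def.mp this)
    rw [e.length_eq, Module.length_eq_one]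
    exact ENat.one_lt_top
  | exact N₁ N₂ N₃ f g hf hg hfg ih₁ ih₃ =>
    rw [Module.support_of_exact hfg hf hg] at h
    rw [Module.length_eq_add_of_exact f g hf hg hfg]
    exact ENat.add_lt_top.2 ⟨ih₁ fun p hp => h p (Or.inl hp), ih₃ fun p hp => h p (Or.inr hp)⟩

/-- `M / xM` supported in the closed point. -/
theorem isMaximal_of_supportDim [IsLocalRing R] {M : Type v} [AddCommGroup M] [Module R M]
    [Module.Finite R M] {x : R} (hx : Module.supportDim R (M ⧸ x • (⊤ : Submodule R M)) ≤ 0)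
    {p : PrimeSpectrum R} (hp : p ∈ Module.support R M) (hxp : x ∈ p.asIdeal) :
    p.asIdeal.IsMaximal := by
  have hmem : ∀ q : PrimeSpectrum R, q ∈ Module.support R M → x ∈ q.asIdeal →
      q ∈ Module.support R (M ⧸ x • (⊤ : Submodule R M)) := fun q h1 h2 => by
    rw [← Submodule.ideal_span_singleton_smul, Module.support_quotient]
    exact ⟨h1, (PrimeSpectrum.mem_zeroLocus _ _).2
      (SetLike.coe_subset_coe.2 (Ideal.span_le.2 (Set.singleton_subset_iff.2 h2)))⟩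
  have hmax := Order.krullDim_nonpos_iff_forall_isMax.1 hx ⟨p, hmem p hp hxp⟩
  let m : PrimeSpectrum R := ⟨IsLocalRing.maximalIdeal R, inferInstance⟩
  have hpm : p ≤ m := IsLocalRing.le_maximalIdeal p.isPrime.ne_top
  have hmM : m ∈ Module.support R M := Module.mem_support_mono hpm hp
  have := hmax (b := ⟨m, hmem m hmM (hpm hxp)⟩) hpm
  rw [show p = m from le_antisymm hpm this]
  exact IsLocalRing.maximalIdeal.isMaximal R

variable [IsNoetherianRing R] [IsLocalRing R] {M : Type v} [AddCommGroup M] [Module R M]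
  [Module.Finite R M] (x : R) (hx : Module.supportDim R (M ⧸ x • (⊤ : Submodule R M)) ≤ 0)

include hx

theorem length_lt_top_of_smul_eq_zero {N : Type v} [AddCommGroup N] [Module R N] [Module.Finite R N]
    (hN : Module.support R N ⊆ Module.support R M) (h0 : ∀ y : N, x • y = 0) :
    Module.length R N < ⊤ :=
  length_lt_top_of_support fun p hp => isMaximal_of_supportDim hx (hN hp)
    ((Module.annihilator_le_of_mem_support hp) (Module.mem_annihilator.2 h0))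

theorem smul_left (φ ψ : M →ₗ[R] M) (hper : IsPeriodic φ ψ) (hfin : FinCoh R φ ψ) :
    Module.length R (perH (x • φ) ψ) = Module.length R (perH φ ψ) +
      Module.length R (perH (x • LinearMap.id : range φ →ₗ[R] range φ) 0) ∧
    Module.length R (perH ψ (x • φ)) =
      Module.length R (perH (0 : range φ →ₗ[R] range φ) (x • LinearMap.id)) +
        Module.length R (perH ψ φ) ∧
    Module.length R (perH (x • LinearMap.id : range φ →ₗ[R] range φ) 0) < ⊤ ∧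
    Module.length R (perH (0 : range φ →ₗ[R] range φ) (x • LinearMap.id)) < ⊤ := by
  set z : range φ →ₗ[R] range φ := x • LinearMap.id
  have hsupp : Module.support R (range φ) ⊆ Module.support R M :=
    Module.support_subset_of_surjective φ.rangeRestrict φ.surjective_rangeRestrict
  have : IsNoetherian R M := inferInstance
  have fin1 : Module.length R (perH z 0) < ⊤ := by
    refine (Module.length_le_of_surjective (Submodule.mkQ _) (Submodule.mkQ_surjective _)).trans_lt ?_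
    exact length_lt_top_of_smul_eq_zero x hx
      ((Module.support_subset_of_injective (Submodule.subtype _) Subtype.val_injective).trans hsupp)
      (fun y => Subtype.ext (mem_ker.1 y.2))
  have fin2 : Module.length R (perH (0 : range φ →ₗ[R] range φ) z) < ⊤ := by
    refine length_lt_top_of_smul_eq_zero x hx ?_ ?_
    · exact (Module.support_subset_of_surjective _ (Submodule.mkQ_surjective _)).trans
        ((Module.support_subset_of_injective (Submodule.subtype _) Subtype.val_injective).trans hsupp)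
    · intro y
      obtain ⟨w, rfl⟩ := cls_surjective y
      rw [← Submodule.Quotient.mk_smul]
      exact (cls_eq_zero_iff _).2 ⟨w.1, rfl⟩
  refine ⟨?_, ?_, fin1, fin2⟩
  · -- `0 → H(φ,ψ) → H(xφ,ψ) → ker (x on im φ) → 0`
    let i : perH φ ψ →ₗ[R] perH (x • φ) ψ :=
      Submodule.mapQ _ _ (Submodule.inclusion (show ker φ ≤ ker (x • φ) from fun y hy => by
        simp [mem_ker.1 hy])) fun y hy => hy
    let j0 : ker (x • φ) →ₗ[R] ker z :=
      (φ.rangeRestrict ∘ₗ (ker (x • φ)).subtype).codRestrict _ fun y => Subtype.ext (mem_ker.1 y.2)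
    let j : perH (x • φ) ψ →ₗ[R] perH z 0 :=
      Submodule.mapQ _ _ j0 fun y hy => by
        obtain ⟨w, hw⟩ := hy
        refine ⟨0, Subtype.ext ?_⟩
        show (0 : M) = φ y.1
        rw [show y.1 = ψ w from hw.symm, ← comp_apply φ ψ, hper.1, LinearMap.zero_apply]
    refine Module.length_eq_add_of_exact i j (fun a b hab => ?_) (fun c => ?_)
      (fun c => ⟨fun hc => ?_, ?_⟩)
    · obtain ⟨a, rfl⟩ := cls_surjective a
      obtain ⟨b, rfl⟩ := cls_surjective b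
      exact (cls_eq_iff a b).2 (((Submodule.Quotient.eq _).1 hab : _))
    · obtain ⟨⟨⟨_, y, rfl⟩, hw⟩, rfl⟩ := cls_surjective c
      exact ⟨cls _ _ ⟨y, mem_ker.2 (congrArg Subtype.val (mem_ker.1 hw))⟩, rfl⟩
    · obtain ⟨y, rfl⟩ := cls_surjective c
      obtain ⟨w, hw⟩ := (cls_eq_zero_iff (j0 y)).1 hc
      have hy0 : φ y.1 = 0 := (congrArg Subtype.val hw).symm
      exact ⟨cls φ ψ ⟨y.1, hy0⟩, rfl⟩
    · rintro ⟨c, rfl⟩
      obtain ⟨y, rfl⟩ := cls_surjective c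
      exact (cls_eq_zero_iff (j0 _)).2 ⟨0, Subtype.ext (mem_ker.1 y.2).symm⟩
  · -- `0 → (im φ)/x → H(ψ,xφ) → H(ψ,φ) → 0`
    let i0 : ker (0 : range φ →ₗ[R] range φ) →ₗ[R] ker ψ :=
      ((range φ).subtype ∘ₗ (ker (0 : range φ →ₗ[R] range φ)).subtype).codRestrict _ fun w => by
        obtain ⟨u, hu⟩ := w.1.2
        show ψ w.1.1 = 0
        rw [← hu, ← comp_apply ψ φ, hper.2, LinearMap.zero_apply]
    let i : perH (0 : range φ →ₗ[R] range φ) z →ₗ[R] perH ψ (x • φ) :=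
      Submodule.mapQ _ _ i0 fun w hw => by
        obtain ⟨⟨_, v, rfl⟩, hu⟩ := hw
        exact ⟨v, (congrArg Subtype.val hu :)⟩
    let j : perH ψ (x • φ) →ₗ[R] perH ψ φ :=
      Submodule.mapQ _ _ LinearMap.id fun y hy => by
        obtain ⟨w, hw⟩ := hy
        exact ⟨x • w, (map_smul φ x w).trans hw⟩
    refine Module.length_eq_add_of_exact i j ((injective_iff_map_eq_zero _).2 fun c hc => ?_)
      (fun c => ?_) (fun c => ⟨fun hc => ?_, ?_⟩)
    · obtain ⟨w, rfl⟩ := cls_surjective c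
      obtain ⟨u, hu⟩ := (cls_eq_zero_iff (i0 w)).1 hc
      exact (cls_eq_zero_iff w).2 ⟨⟨φ u, u, rfl⟩, Subtype.ext hu⟩
    · obtain ⟨y, rfl⟩ := cls_surjective c
      exact ⟨cls ψ (x • φ) y, rfl⟩
    · obtain ⟨y, rfl⟩ := cls_surjective c
      obtain ⟨u, hu⟩ := (cls_eq_zero_iff y).1 hc
      exact ⟨cls _ _ ⟨⟨y.1, u, hu⟩, rfl⟩, rfl⟩
    · rintro ⟨c, rfl⟩
      obtain ⟨w, rfl⟩ := cls_surjective c
      exact (cls_eq_zero_iff _).2 w.1.2

theorem herbrand_smul_left (φ ψ : M →ₗ[R] M) (hper : IsPeriodic φ ψ) (hfin : FinCoh R φ ψ) :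
    (FinCoh R (x • φ) ψ ∧ herbrand R (x • φ) ψ = herbrand R φ ψ -
        herbrand R (0 : range φ →ₗ[R] range φ) (x • LinearMap.id)) ∧
    (FinCoh R φ (x • ψ) ∧ herbrand R φ (x • ψ) = herbrand R φ ψ +
        herbrand R (0 : range ψ →ₗ[R] range ψ) (x • LinearMap.id)) := by
  obtain ⟨e1, e2, a1, a2⟩ := smul_left x hx φ ψ hper hfin
  obtain ⟨e3, e4, a3, a4⟩ := smul_left x hx ψ φ ⟨hper.2, hper.1⟩ ⟨hfin.2, hfin.1⟩
  unfold FinCoh herbrand
  rw [e1, e2, e3, e4, toNat_add hfin.1 a1, toNat_add a2 hfin.2, toNat_add hfin.2 a3, toNat_add a4 hfin.1]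
  simp only [ENat.add_lt_top]
  refine ⟨⟨⟨⟨hfin.1, a1⟩, a2, hfin.2⟩, ?_⟩, ⟨⟨a4, hfin.1⟩, hfin.2, a3⟩, ?_⟩ <;> push_cast <;> ring

end Smul

end Groth.Agent.CycAlg50
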