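import Groth.Agent.CycAlg50.Basic
import Groth.Agent.Len90.Multiplicity
import Groth.Agent.Len90.Devissage
import Groth.Prelude.Def_CycDet
import Mathlib.RingTheory.Ideal.AssociatedPrime.Localization

/-! Modules of dimension at most one and filtrations at a minimal prime. -/

set_option autoImplicit false
set_option linter.unusedSectionVars false

universe u

namespace Groth.Agent.CycAlg50

open LinearMap
open scoped Pointwise

variable {R : Type u} [CommRing R] [IsNoetherianRing R] [IsLocalRing R]

theorem locLen_of_subsingleton (p : Ideal R) [p.IsPrime] (N : Type u) [AddCommGroup N] [Module R N]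
    [Subsingleton N] : Len90.locLen p N = 0 := by
  have : Subsingleton (LocalizedModule p.primeCompl N) :=
    ⟨fun x y => by induction x, y using LocalizedModule.induction_on₂ with
      | h a b s t => exact LocalizedModule.mk_eq.mpr ⟨1, Subsingleton.elim _ _⟩⟩
  exact Module.length_eq_zero

theorem locLen_of_notMem_support (p : PrimeSpectrum R) (N : Type u) [AddCommGroup N] [Module R N]
    (h : p ∉ Module.support R N) : Len90.locLen p.asIdeal N = 0 := by
  have : Subsingleton (LocalizedModule p.asIdeal.primeCompl N) := by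
    simpa [Module.notMem_support_iff] using h
  exact Module.length_eq_zero

theorem ker_eq_coker_of_finite {N : Type u} [AddCommGroup N] [Module R N] (f : N →ₗ[R] N)
    (h : Module.length R N < ⊤) :
    Module.length R (ker f) < ⊤ ∧ Module.length R (N ⧸ range f) = Module.length R (ker f) := by
  have e1 := length_eq_ker_add_range f
  have e2 : Module.length R N = Module.length R (range f) + Module.length R (N ⧸ range f) :=
    Module.length_eq_add_of_exact (range f).subtype (range f).mkQ Subtype.val_injective
      (Submodule.mkQ_surjective _) (LinearMap.exact_subtype_mkQ _)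
  have h1 : Module.length R (range f) < ⊤ := (length_range_le_dom f).trans_lt h
  refine ⟨(Module.length_le_of_injective (ker f).subtype Subtype.val_injective).trans_lt h, ?_⟩
  rw [e2, add_comm] at e1
  exact WithTop.add_right_cancel h1.ne e1

theorem length_quot_eq {M : Type u} [AddCommGroup M] [Module R M] [Module.Finite R M] (x : R)
    (h1 : Module.supportDim R M ≤ 1)
    (h0 : Module.supportDim R (M ⧸ x • (⊤ : Submodule R M)) ≤ 0) :
    Module.length R (M ⧸ x • (⊤ : Submodule R M)) =
      Module.length R (ker (lsmul R M x)) +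
        ∑ᶠ (p : PrimeSpectrum R) (_ : p ∈ Module.support R M ∧ p.asIdeal ≠ IsLocalRing.maximalIdeal R),
          Ring.ord (R ⧸ p.asIdeal) (Ideal.Quotient.mk p.asIdeal x) * Len90.locLen p.asIdeal M := by
  classical
  set T : Set (PrimeSpectrum R) :=
    {p | p ∈ Module.support R M ∧ p.asIdeal ≠ IsLocalRing.maximalIdeal R}
  let m : PrimeSpectrum R := ⟨IsLocalRing.maximalIdeal R, inferInstance⟩
  have hmin : ∀ p ∈ T, ∀ P ∈ Module.support R M, P.asIdeal ≤ p.asIdeal → P = p := by
    intro p hp P hP hle
    by_contra hne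
    have hPp : P < p := lt_of_le_of_ne (PrimeSpectrum.asIdeal_le_asIdeal P p |>.1 hle) hne
    have hpm : p < m := lt_of_le_of_ne (IsLocalRing.le_maximalIdeal p.isPrime.ne_top)
      fun e => hp.2 (congrArg PrimeSpectrum.asIdeal e)
    let c : LTSeries (Module.support R M) :=
      { length := 2
        toFun := ![⟨P, hP⟩, ⟨p, hp.1⟩, ⟨m, Module.mem_support_mono hpm.le hp.1⟩]
        step := fun i => by
          fin_cases i
          · exact hPp
          · exact hpm }
    have h2 := (Order.LTSeries.length_le_krullDim c).trans h1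
    exact absurd h2 (by norm_cast)
  have hfinT : T.Finite := by
    refine ((Ideal.finite_minimalPrimes_of_isNoetherianRing R (Module.annihilator R M)).preimage
      fun _ _ _ _ e => PrimeSpectrum.ext e).subset (s := PrimeSpectrum.asIdeal ⁻¹' (Module.annihilator R M).minimalPrimes) ?_
    intro p hp
    refine ⟨⟨p.isPrime, Module.annihilator_le_of_mem_support hp.1⟩, fun J hJ hJp => ?_⟩
    have := hmin p hp ⟨J, hJ.1⟩ (Module.mem_support_iff_of_finite.2 hJ.2) hJp
    exact le_of_eq (congrArg PrimeSpectrum.asIdeal this).symm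
  have hnx : ∀ p ∈ T, x ∉ p.asIdeal := fun p hp hxp => hp.2 <|
    (isMaximal_of_supportDim h0 hp.1 hxp).eq_of_le (IsLocalRing.maximalIdeal.isMaximal R).ne_top
      (IsLocalRing.le_maximalIdeal p.isPrime.ne_top)
  let F : ∀ (N : Type u) [AddCommGroup N] [Module R N], ℕ∞ := fun N _ _ =>
    ∑ p ∈ hfinT.toFinset,
      Ring.ord (R ⧸ p.asIdeal) (Ideal.Quotient.mk p.asIdeal x) * Len90.locLen p.asIdeal N
  suffices H : ∀ (N : Type u) [AddCommGroup N] [Module R N] [Module.Finite R N],
      Module.support R N ⊆ Module.support R M →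
      Module.length R (ker (lsmul R N x)) < ⊤ ∧
      Module.length R (N ⧸ range (lsmul R N x)) < ⊤ ∧
      Module.length R (N ⧸ range (lsmul R N x)) = Module.length R (ker (lsmul R N x)) + F N by
    have hr : range (lsmul R M x) = x • (⊤ : Submodule R M) := by
      rw [range_eq_map, Submodule.pointwise_smul_def]
      rfl
    rw [← hr]
    exact (H M subset_rfl).2.2.trans (congrArg (Module.length R (ker (lsmul R M x)) + ·)
      (finsum_mem_eq_finite_toFinset_sum _ hfinT).symm)
  intro N _ _ _
  induction ‹Module.Finite R N› using IsNoetherianRing.induction_on_isQuotientEquivQuotientPrime R with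
  | subsingleton N =>
    intro _
    have hF : F N = 0 := Finset.sum_eq_zero fun p _ => by
      rw [locLen_of_subsingleton p.asIdeal N, mul_zero]
    simp [Module.length_eq_zero, hF]
  | quotient N P e =>
    intro hsupp
    have hP : P ∈ Module.support R M := hsupp <| by
      rw [e.support_eq, Module.mem_support_iff_of_finite, Ideal.annihilator_quotient]
    obtain ⟨e1, e2⟩ := Len90.coker_congr e (f := lsmul R N x) (g := lsmul R (R ⧸ P.asIdeal) x)
      (fun y => by simp)
    have hF : F N = F (R ⧸ P.asIdeal) :=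
      Finset.sum_congr rfl fun p _ => by rw [Len90.locLen_congr p.asIdeal e]
    change Len90.kerLen _ < ⊤ ∧ Len90.coker _ < ⊤ ∧ Len90.coker _ = Len90.kerLen _ + F N
    rw [e1, e2, hF]
    change Module.length R (ker (lsmul R (R ⧸ P.asIdeal) x)) < ⊤ ∧
      Module.length R ((R ⧸ P.asIdeal) ⧸ range (lsmul R (R ⧸ P.asIdeal) x)) < ⊤ ∧
      Module.length R ((R ⧸ P.asIdeal) ⧸ range (lsmul R (R ⧸ P.asIdeal) x)) =
        Module.length R (ker (lsmul R (R ⧸ P.asIdeal) x)) + F (R ⧸ P.asIdeal)
    by_cases hPm : P.asIdeal = IsLocalRing.maximalIdeal R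
    · have hF0 : F (R ⧸ P.asIdeal) = 0 := Finset.sum_eq_zero fun p hp => by
        rw [Set.Finite.mem_toFinset] at hp
        rw [Len90.locLen_quot_of_not_le, mul_zero]
        intro hle
        rw [hPm] at hle
        exact hp.2 ((IsLocalRing.maximalIdeal.isMaximal R).eq_of_le p.isPrime.ne_top hle).symm
      have hlen : Module.length R (R ⧸ P.asIdeal) < ⊤ := by
        have : Module.length R (R ⧸ P.asIdeal) = 1 := by
          rw [hPm, Module.length_eq_one_iff, isSimpleModule_iff_isCoatom]
          exact Ideal.isMaximal_def.mp (IsLocalRing.maximalIdeal.isMaximal R)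
        rw [this]
        exact ENat.one_lt_top
      obtain ⟨k1, k2⟩ := ker_eq_coker_of_finite (lsmul R (R ⧸ P.asIdeal) x) hlen
      rw [hF0, add_zero]
      exact ⟨k1, k2 ▸ k1, k2⟩
    · have hPT : P ∈ T := ⟨hP, hPm⟩
      have hxP := hnx P hPT
      have hker : ker (lsmul R (R ⧸ P.asIdeal) x) = ⊥ := by
        refine ker_eq_bot.2 fun y z h => ?_
        simp only [lsmul_apply, Algebra.smul_def] at h
        exact mul_left_cancel₀ (fun h' => hxP (Ideal.Quotient.eq_zero_iff_mem.mp h')) h
      have hcok : Module.length R ((R ⧸ P.asIdeal) ⧸ range (lsmul R (R ⧸ P.asIdeal) x)) =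
          Ring.ord (R ⧸ P.asIdeal) (Ideal.Quotient.mk P.asIdeal x) := by
        have hr : range (lsmul R (R ⧸ P.asIdeal) x) =
            (Ideal.span {Ideal.Quotient.mk P.asIdeal x}).restrictScalars R := by
          ext y
          rw [Submodule.restrictScalars_mem, Ideal.mem_span_singleton']
          simp only [LinearMap.mem_range, lsmul_apply, Algebra.smul_def, Ideal.Quotient.algebraMap_eq]
          exact exists_congr fun z => by rw [mul_comm]
        rw [hr, Ring.ord, ((Submodule.Quotient.restrictScalarsEquiv R _)).length_eq]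
        exact Module.length_eq_of_surjective (Ideal.Quotient.mk_surjective (I := P.asIdeal))
      have hfin : Module.length R ((R ⧸ P.asIdeal) ⧸ range (lsmul R (R ⧸ P.asIdeal) x)) < ⊤ := by
        refine length_lt_top_of_smul_eq_zero x h0 ?_ ?_
        · refine (Module.support_subset_of_surjective _ (Submodule.mkQ_surjective _)).trans ?_
          rw [← e.support_eq]
          exact hsupp
        · intro y
          obtain ⟨y, rfl⟩ := Submodule.mkQ_surjective _ y
          rw [← map_smul]
          exact (Submodule.Quotient.mk_eq_zero _).2 ⟨y, rfl⟩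
      have hFP : F (R ⧸ P.asIdeal) = Ring.ord (R ⧸ P.asIdeal) (Ideal.Quotient.mk P.asIdeal x) := by
        refine (Finset.sum_eq_single P (fun p hp hne => ?_) (fun h => ?_)).trans ?_
        · rw [Set.Finite.mem_toFinset] at hp
          rw [Len90.locLen_quot_of_not_le, mul_zero]
          exact fun hle => hne (hmin p hp P hP hle).symm
        · exact absurd ((Set.Finite.mem_toFinset hfinT).mpr hPT) h
        · rw [Len90.locLen_quot_self, mul_one]
      rw [hker]
      simp only [Module.length_eq_zero, zero_add]
      exact ⟨ENat.top_pos, hfin, hcok.trans hFP.symm⟩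
  | exact N₁ N₂ N₃ f g hf hg hfg ih1 ih3 =>
    intro hsupp
    rw [Module.support_of_exact hfg hf hg, Set.union_subset_iff] at hsupp
    obtain ⟨k1, c1, e1⟩ := ih1 hsupp.1
    obtain ⟨k3, c3, e3⟩ := ih3 hsupp.2
    obtain ⟨s1, -, -, s4, s5, -⟩ := Len90.euler f g hf hg (LinearMap.exact_iff.mp hfg).symm
      (lsmul R N₁ x) (lsmul R N₂ x) (lsmul R N₃ x) (LinearMap.ext fun y => by simp)
      (LinearMap.ext fun y => by simp)
    simp only [Len90.coker, Len90.kerLen] at s1 s4 s5
    have k2 := s5.trans_lt (ENat.add_lt_top.2 ⟨k1, k3⟩)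
    have c2 := s4.trans_lt (ENat.add_lt_top.2 ⟨c1, c3⟩)
    refine ⟨k2, c2, ?_⟩
    have hadd : F N₂ = F N₁ + F N₃ := by
      simp only [F, ← Finset.sum_add_distrib]
      exact Finset.sum_congr rfl fun p _ => by
        rw [Len90.locLen_exact p.asIdeal f g hf hg hfg, mul_add]
    have m1 : F N₁ < ⊤ := lt_of_le_of_lt (e1 ▸ le_add_self) c1
    have m3 : F N₃ < ⊤ := lt_of_le_of_lt (e3 ▸ le_add_self) c3
    rw [hadd]
    lift Module.length R (ker (lsmul R N₁ x)) to ℕ using k1.ne with a1
    lift Module.length R (ker (lsmul R N₂ x)) to ℕ using k2.ne with a2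
    lift Module.length R (ker (lsmul R N₃ x)) to ℕ using k3.ne with a3
    lift Module.length R (N₁ ⧸ range (lsmul R N₁ x)) to ℕ using c1.ne with b1
    lift Module.length R (N₂ ⧸ range (lsmul R N₂ x)) to ℕ using c2.ne with b2
    lift Module.length R (N₃ ⧸ range (lsmul R N₃ x)) to ℕ using c3.ne with b3
    lift F N₁ to ℕ using m1.ne with z1
    lift F N₃ to ℕ using m3.ne with z3
    norm_cast at s1 e1 e3 ⊢
    omega

section Filtration

variable {M : Type u} [AddCommGroup M] [Module R M] [Module.Finite R M]

theorem spanBefore_eq_span_range {l : ℕ} (x : Fin l → M) :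
    CycDet.spanBefore R M x l = Submodule.span R (Set.range x) := by
  unfold CycDet.spanBefore
  congr 1
  ext y
  simp

theorem spanBefore_snoc {l : ℕ} (x : Fin l → M) (y : M) (i : ℕ) (hi : i ≤ l) :
    CycDet.spanBefore R M (Fin.snoc x y : Fin (l + 1) → M) i = CycDet.spanBefore R M x i := by
  unfold CycDet.spanBefore
  congr 1
  ext z
  constructor
  · rintro ⟨j, hj, rfl⟩
    have hj' : (j : ℕ) < l := lt_of_lt_of_le hj hi
    exact ⟨⟨j, hj'⟩, hj, by simp [Fin.snoc, hj']; rfl⟩
  · rintro ⟨j, hj, rfl⟩
    exact ⟨j.castSucc, hj, Fin.snoc_castSucc (α := fun _ => M) _ _ _⟩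

theorem nonempty_step (N : Submodule R M) (y : M) (I : Ideal R) (hI : I = N.colon {y})
    (N' : Submodule R M) (hN' : N' = N ⊔ R ∙ y) :
    Nonempty ((↥N' ⧸ N.submoduleOf N') ≃ₗ[R] (R ⧸ I)) := by
  have hy : y ∈ N' := hN' ▸ Submodule.mem_sup_right (Submodule.mem_span_singleton_self y)
  let f : R →ₗ[R] (↥N' ⧸ N.submoduleOf N') :=
    LinearMap.toSpanSingleton R _ (Submodule.Quotient.mk ⟨y, hy⟩)
  have hs : Function.Surjective f := by
    intro c
    obtain ⟨⟨z, hz⟩, rfl⟩ := Submodule.Quotient.mk_surjective _ c
    obtain ⟨a, ha, b, hb, rfl⟩ := Submodule.mem_sup.1 (hN' ▸ hz)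
    obtain ⟨r, rfl⟩ := Submodule.mem_span_singleton.1 hb
    refine ⟨r, (Submodule.Quotient.eq _).2 ?_⟩
    show r • y - (a + r • y) ∈ N
    simpa using neg_mem ha
  have hk : ker f = I := by
    ext r
    rw [mem_ker, hI, Submodule.mem_colon_singleton]
    exact Submodule.Quotient.mk_eq_zero _
  exact ⟨(f.quotKerEquivOfSurjective hs).symm.trans (Submodule.quotEquivOfEq _ _ hk)⟩

theorem nonempty_quot_congr {A A' B B' : Submodule R M} (hA : A = A') (hB : B = B') (Q : Type u)
    [AddCommGroup Q] [Module R Q] (h : Nonempty ((↥B' ⧸ A'.submoduleOf B') ≃ₗ[R] Q)) :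
    Nonempty ((↥B ⧸ A.submoduleOf B) ≃ₗ[R] Q) := by
  subst hA hB
  exact h

variable (q : PrimeSpectrum R) (hq : Minimal (fun p : PrimeSpectrum R => p ∈ Module.support R M) q)

include hq

theorem exists_filtration :
    ∃ (l : ℕ) (x : Fin l → M), q ∉ Module.support R (M ⧸ Submodule.span R (Set.range x)) ∧
      ∀ i : Fin l, Nonempty ((↥(CycDet.spanBefore R M x (i + 1)) ⧸
        (CycDet.spanBefore R M x i).submoduleOf (CycDet.spanBefore R M x (i + 1))) ≃ₗ[R]
          (R ⧸ q.asIdeal)) := by
  suffices H : ∀ N : Submodule R M, ∀ (l : ℕ) (x : Fin l → M), Submodule.span R (Set.range x) = N →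
      (∀ i : Fin l, Nonempty ((↥(CycDet.spanBefore R M x (i + 1)) ⧸
        (CycDet.spanBefore R M x i).submoduleOf (CycDet.spanBefore R M x (i + 1))) ≃ₗ[R]
          (R ⧸ q.asIdeal))) →
      ∃ (l : ℕ) (x : Fin l → M), q ∉ Module.support R (M ⧸ Submodule.span R (Set.range x)) ∧
        ∀ i : Fin l, Nonempty ((↥(CycDet.spanBefore R M x (i + 1)) ⧸
          (CycDet.spanBefore R M x i).submoduleOf (CycDet.spanBefore R M x (i + 1))) ≃ₗ[R]
            (R ⧸ q.asIdeal)) by
    exact H ⊥ 0 Fin.elim0 (by simp [Set.range_eq_empty]) fun i => i.elim0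
  intro N
  induction N using (wellFounded_gt (α := Submodule R M)).induction with
  | _ N ih =>
    intro l x hx hstep
    by_cases hmem : q ∈ Module.support R (M ⧸ N)
    swap
    · exact ⟨l, x, hx.symm ▸ hmem, hstep⟩
    have hqmin : q.asIdeal ∈ (Module.annihilator R (M ⧸ N)).minimalPrimes := by
      refine ⟨⟨q.isPrime, Module.annihilator_le_of_mem_support hmem⟩, fun J hJ hJq => ?_⟩
      have hJM : (⟨J, hJ.1⟩ : PrimeSpectrum R) ∈ Module.support R M :=
        Module.support_subset_of_surjective N.mkQ N.mkQ_surjective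
          (Module.mem_support_iff_of_finite.2 hJ.2)
      exact hq.2 hJM hJq
    obtain ⟨-, ybar, hy⟩ := isAssociatedPrime_iff.1
      (Module.associatedPrimes.minimalPrimes_annihilator_subset_associatedPrimes R (M ⧸ N) hqmin)
    obtain ⟨y, rfl⟩ := N.mkQ_surjective ybar
    have hcol : q.asIdeal = N.colon {y} := by
      rw [hy]
      ext r
      rw [Submodule.mem_colon_singleton, Submodule.mem_colon_singleton, Submodule.mem_bot,
        ← map_smul, Submodule.mkQ_apply, Submodule.Quotient.mk_eq_zero]
    have hyN : y ∉ N := fun h => q.isPrime.ne_top <| by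
      rw [hcol, Ideal.eq_top_iff_one, Submodule.mem_colon_singleton, one_smul]
      exact h
    let x' : Fin (l + 1) → M := Fin.snoc x y
    have hx' : Submodule.span R (Set.range x') = N ⊔ R ∙ y := by
      rw [Fin.range_snoc, Submodule.span_insert, hx, sup_comm]
    refine ih (N ⊔ R ∙ y) ?_ (l + 1) x' hx' fun i => ?_
    · refine lt_of_le_of_ne le_sup_left fun e => hyN ?_
      rw [e]
      exact Submodule.mem_sup_right (Submodule.mem_span_singleton_self y)
    · induction i using Fin.lastCases with
      | last =>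
        simp only [Fin.val_last]
        have h1 : CycDet.spanBefore R M x' l = N := by
          rw [spanBefore_snoc x y l le_rfl, spanBefore_eq_span_range, hx]
        refine nonempty_step _ y q.asIdeal (h1.symm ▸ hcol) _ ?_
        rw [h1, spanBefore_eq_span_range, hx']
      | cast j =>
        simp only [Fin.val_castSucc]
        exact nonempty_quot_congr (spanBefore_snoc x y _ (by omega)) (spanBefore_snoc x y _ (by omega)) _
          (hstep j)

omit hq in
theorem length_filtration (l : ℕ) (x : Fin l → M)
    (hsupp : q ∉ Module.support R (M ⧸ Submodule.span R (Set.range x)))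
    (hstep : ∀ i : Fin l, Nonempty ((↥(CycDet.spanBefore R M x (i + 1)) ⧸
      (CycDet.spanBefore R M x i).submoduleOf (CycDet.spanBefore R M x (i + 1))) ≃ₗ[R]
        (R ⧸ q.asIdeal))) :
    (l : ℕ∞) = Len90.locLen q.asIdeal M := by
  have key : ∀ i, i ≤ l → Len90.locLen q.asIdeal (CycDet.spanBefore R M x i) = i := by
    intro i
    induction i with
    | zero =>
      intro _
      have h0 : CycDet.spanBefore R M x 0 = ⊥ := by simp [CycDet.spanBefore]
      rw [h0, locLen_of_subsingleton]
      simp
    | succ i ih =>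
      intro hi
      obtain ⟨e⟩ := hstep ⟨i, by omega⟩
      have hle : CycDet.spanBefore R M x i ≤ CycDet.spanBefore R M x (i + 1) :=
        Submodule.span_mono (Set.image_mono fun j (hj : (j : ℕ) < i) => Nat.lt_succ_of_lt hj)
      rw [Len90.locLen_exact q.asIdeal (Submodule.inclusion hle)
        ((CycDet.spanBefore R M x i).submoduleOf (CycDet.spanBefore R M x (i + 1))).mkQ
        (Submodule.inclusion_injective hle) (Submodule.mkQ_surjective _) ?_, ih (by omega),
        Len90.locLen_congr q.asIdeal e, Len90.locLen_quot_self]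
      · push_cast; rfl
      · rw [LinearMap.exact_iff, Submodule.ker_mkQ, Submodule.range_inclusion]
        rfl
  have := key l le_rfl
  rw [spanBefore_eq_span_range] at this
  rw [Len90.locLen_exact q.asIdeal (Submodule.span R (Set.range x)).subtype
    (Submodule.span R (Set.range x)).mkQ Subtype.val_injective (Submodule.mkQ_surjective _)
    (LinearMap.exact_subtype_mkQ _), this, locLen_of_notMem_support q _ hsupp, add_zero]

end Filtration

end Groth.Agent.CycAlg50
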