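import Groth.Agent.CycAlg50.Dim1
import Groth.Agent.Len90.OrdFrac
import Mathlib.RingTheory.Regular.IsSMulRegular

/-! Injective endomorphisms of one-dimensional modules. -/

set_option autoImplicit false
set_option linter.unusedSectionVars false
set_option linter.style.haveILetI false

universe u v

namespace Groth.Agent.CycAlg50

open LinearMap CycAlg
open scoped Pointwise

variable {R : Type u} [CommRing R]

theorem toNat_finset_sum {ι : Type*} (s : Finset ι) (f : ι → ℕ∞) (h : ∀ i ∈ s, f i < ⊤) :
    (∑ i ∈ s, f i).toNat = ∑ i ∈ s, (f i).toNat := by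
  classical
  induction s using Finset.induction_on with
  | empty => simp
  | insert i s hi ih =>
    rw [Finset.sum_insert hi, Finset.sum_insert hi,
      toNat_add (h i (Finset.mem_insert_self i s))
        (Finset.sum_induction f (· < ⊤) (fun a b ha hb => ENat.add_lt_top.2 ⟨ha, hb⟩) ENat.top_pos
          fun j hj => h j (Finset.mem_insert_of_mem hj)),
      ih fun j hj => h j (Finset.mem_insert_of_mem hj)]

/-- Colength through an injective endomorphism. -/
theorem length_quot_of_le_range {M : Type v} [AddCommGroup M] [Module R M] (f : M →ₗ[R] M)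
    (hf : Function.Injective f) (W : Submodule R M) (hW : W ≤ range f) :
    Module.length R (M ⧸ W) =
      Module.length R (M ⧸ W.comap f) + Module.length R (M ⧸ range f) := by
  refine Module.length_eq_add_of_exact ((W.comap f).mapQ W f le_rfl) (Submodule.factor hW) ?_
    (Submodule.factor_surjective _) ?_
  · refine (injective_iff_map_eq_zero _).2 fun c hc => ?_
    obtain ⟨x, rfl⟩ := Submodule.Quotient.mk_surjective _ c
    exact (Submodule.Quotient.mk_eq_zero _).2 ((Submodule.Quotient.mk_eq_zero W (x := f x)).1 hc)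
  · intro c
    obtain ⟨x, rfl⟩ := Submodule.Quotient.mk_surjective _ c
    constructor
    · intro hc
      obtain ⟨y, hy⟩ := (Submodule.Quotient.mk_eq_zero _).1 hc
      exact ⟨Submodule.Quotient.mk y, congrArg Submodule.Quotient.mk hy⟩
    · rintro ⟨c, hc⟩
      obtain ⟨y, rfl⟩ := Submodule.Quotient.mk_surjective _ c
      rw [← hc]
      exact (Submodule.Quotient.mk_eq_zero _).2 ⟨y, rfl⟩

variable [IsNoetherianRing R] [IsLocalRing R]

theorem locLen_ne_top {M : Type u} [AddCommGroup M] [Module R M] (p : PrimeSpectrum R)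
    (hmin : ∀ P ∈ Module.support R M, P.asIdeal ≤ p.asIdeal → P = p)
    (N : Type u) [AddCommGroup N] [Module R N] [Module.Finite R N]
    (hN : Module.support R N ⊆ Module.support R M) : Len90.locLen p.asIdeal N ≠ ⊤ := by
  induction ‹Module.Finite R N› using IsNoetherianRing.induction_on_isQuotientEquivQuotientPrime R with
  | subsingleton N => rw [locLen_of_subsingleton]; exact ENat.zero_ne_top
  | quotient N P e =>
    have hP : P ∈ Module.support R M := hN <| by
      rw [e.support_eq, Module.mem_support_iff_of_finite, Ideal.annihilator_quotient]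
    rw [Len90.locLen_congr p.asIdeal e]
    by_cases hle : P.asIdeal ≤ p.asIdeal
    · obtain rfl := hmin P hP hle
      rw [Len90.locLen_quot_self]
      exact ENat.one_ne_top
    · rw [Len90.locLen_quot_of_not_le _ _ hle]
      exact ENat.zero_ne_top
  | exact N₁ N₂ N₃ f g hf hg hfg h1 h3 =>
    rw [Module.support_of_exact hfg hf hg, Set.union_subset_iff] at hN
    rw [Len90.locLen_exact p.asIdeal f g hf hg hfg]
    exact WithTop.add_ne_top.2 ⟨h1 hN.1, h3 hN.2⟩

theorem length_coker_lt_top_aux {M : Type u} [AddCommGroup M] [Module R M] [Module.Finite R M]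
    (h1 : Module.supportDim R M ≤ 1) (f : M →ₗ[R] M) (hf : Function.Injective f) :
    Module.length R (M ⧸ range f) < ⊤ := by
  refine length_lt_top_of_support fun p hp => ?_
  by_contra hmax
  let m : PrimeSpectrum R := ⟨IsLocalRing.maximalIdeal R, inferInstance⟩
  have hpM : p ∈ Module.support R M :=
    Module.support_subset_of_surjective (range f).mkQ (range f).mkQ_surjective hp
  have hpm : p < m := lt_of_le_of_ne (IsLocalRing.le_maximalIdeal p.isPrime.ne_top)
    fun e => hmax (e ▸ IsLocalRing.maximalIdeal.isMaximal R)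
  have hmin : ∀ P ∈ Module.support R M, P.asIdeal ≤ p.asIdeal → P = p := by
    intro P hP hle
    by_contra hne
    let c : LTSeries (Module.support R M) :=
      { length := 2
        toFun := ![⟨P, hP⟩, ⟨p, hpM⟩, ⟨m, Module.mem_support_mono hpm.le hpM⟩]
        step := fun i => by
          fin_cases i
          · exact lt_of_le_of_ne (α := PrimeSpectrum R) hle hne
          · exact hpm }
    have h2 : ((2 : ℕ) : WithBot ℕ∞) ≤ 1 := (Order.LTSeries.length_le_krullDim c).trans h1
    norm_cast at h2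
  have hne := locLen_ne_top p hmin M subset_rfl
  have e := Len90.locLen_exact p.asIdeal f (range f).mkQ hf (range f).mkQ_surjective
    (LinearMap.exact_map_mkQ_range f)
  have h0 : Len90.locLen p.asIdeal (M ⧸ range f) = 0 := by
    lift Len90.locLen p.asIdeal M to ℕ using hne with n hn
    have hne' : Len90.locLen p.asIdeal (M ⧸ range f) ≠ ⊤ := by
      intro h; rw [h] at e; simp at e
    lift Len90.locLen p.asIdeal (M ⧸ range f) to ℕ using hne' with k hk
    norm_cast at e ⊢
    omega
  exact Module.mem_support_iff.1 hp |> not_subsingleton_iff_nontrivial.2 <| Module.length_eq_zero_iff.1 h0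

theorem length_coker_lt_top {M : Type v} [AddCommGroup M] [Module R M] [Module.Finite R M]
    (h1 : Module.supportDim R M ≤ 1) (f : M →ₗ[R] M) (hf : Function.Injective f) :
    Module.length R (M ⧸ range f) < ⊤ := by
  obtain ⟨n, g, hg⟩ := Module.Finite.exists_fin' R M
  let e : ((Fin n → R) ⧸ ker g) ≃ₗ[R] M := g.quotKerEquivOfSurjective hg
  let f' := e.symm.toLinearMap ∘ₗ f ∘ₗ e.toLinearMap
  have := length_coker_lt_top_aux ((Module.supportDim_eq_of_equiv e).trans_le h1) f'
    (e.symm.injective.comp (hf.comp e.injective))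
  refine lt_of_eq_of_lt (Submodule.Quotient.equiv _ _ e ?_).length_eq.symm this
  rw [← range_comp, show e.toLinearMap ∘ₗ f' = f ∘ₗ e.toLinearMap from
    LinearMap.ext fun x => e.apply_symm_apply _, range_comp, LinearEquiv.range, Submodule.map_top]

theorem exact_periodic {M : Type v} [AddCommGroup M] [Module R M]
    (φ ψ : M →ₗ[R] M) (hφ : Function.Injective φ) (hψ : Function.Injective ψ)
    (hcomm : range (φ ∘ₗ ψ) = range (ψ ∘ₗ φ))
    (φ' ψ' : (M ⧸ range (φ ∘ₗ ψ)) →ₗ[R] (M ⧸ range (φ ∘ₗ ψ)))
    (hφ' : ∀ x, φ' (Submodule.Quotient.mk x) = Submodule.Quotient.mk (φ x))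
    (hψ' : ∀ x, ψ' (Submodule.Quotient.mk x) = Submodule.Quotient.mk (ψ x)) :
    IsPeriodic φ' ψ' ∧ Subsingleton (perH φ' ψ') ∧ Subsingleton (perH ψ' φ') := by
  refine ⟨⟨?_, ?_⟩, subsingleton_of_forall_eq 0 fun c => ?_, subsingleton_of_forall_eq 0 fun c => ?_⟩
  · refine Submodule.linearMap_qext _ (LinearMap.ext fun x => ?_)
    show φ' (ψ' (Submodule.Quotient.mk x)) = 0
    rw [hψ', hφ']
    exact (Submodule.Quotient.mk_eq_zero _).2 ⟨x, rfl⟩
  · refine Submodule.linearMap_qext _ (LinearMap.ext fun x => ?_)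
    show ψ' (φ' (Submodule.Quotient.mk x)) = 0
    rw [hφ', hψ', Submodule.Quotient.mk_eq_zero, hcomm]
    exact ⟨x, rfl⟩
  · obtain ⟨⟨y, hy⟩, rfl⟩ := cls_surjective c
    obtain ⟨x, rfl⟩ := Submodule.Quotient.mk_surjective _ y
    rw [mem_ker, hφ', Submodule.Quotient.mk_eq_zero] at hy
    obtain ⟨z, hz⟩ := hy
    exact (cls_eq_zero_iff _).2 ⟨Submodule.Quotient.mk z, (hψ' z).trans (congrArg _ (hφ hz))⟩
  · obtain ⟨⟨y, hy⟩, rfl⟩ := cls_surjective c
    obtain ⟨x, rfl⟩ := Submodule.Quotient.mk_surjective _ y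
    rw [mem_ker, hψ', Submodule.Quotient.mk_eq_zero, hcomm] at hy
    obtain ⟨z, hz⟩ := hy
    exact (cls_eq_zero_iff _).2 ⟨Submodule.Quotient.mk z, (hφ' z).trans (congrArg _ (hψ hz))⟩

/-- `S6480`. -/
theorem length_sub_length (hR : ringKrullDim R = 1) {M : Type u} [AddCommGroup M] [Module R M]
    [Module.Finite R M] (a b : R) (ha : a ∈ nonZeroDivisors R) (hb : b ∈ nonZeroDivisors R)
    (hMemb : ∀ p ∈ associatedPrimes R M, p ∈ minimalPrimes R)
    (hsupp : Module.support R M = Set.univ) (I : Ideal R)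
    (hI : I = (Ideal.span {b}).colon (Ideal.span {a})) (P : Submodule R M)
    (hP : P = Submodule.comap (lsmul R M b) ((Ideal.span {a} * I) • (⊤ : Submodule R M))) :
    (Ideal.span {a} * I) • (⊤ : Submodule R M) ≤ range (lsmul R M b) ∧
      ((Module.length R (M ⧸ P)).toNat : ℤ) -
          ((Module.length R (M ⧸ I • (⊤ : Submodule R M))).toNat : ℤ) =
        ∑ᶠ (q : PrimeSpectrum R) (_ : q.asIdeal ∈ minimalPrimes R),
          ((Len90.locLen q.asIdeal M).toNat : ℤ) *
            CycAlg.ordFrac (R ⧸ q.asIdeal) q.asIdeal.ResidueField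
              (algebraMap R q.asIdeal.ResidueField a / algebraMap R q.asIdeal.ResidueField b) := by
  classical
  have : Ring.KrullDimLE 1 R := Ring.krullDimLE_iff.mpr hR.le
  have hnotmin : ∀ {c : R}, c ∈ nonZeroDivisors R → ∀ q ∈ minimalPrimes R, c ∉ q := fun hc q hq hcq => by
    exact Ideal.disjoint_nonZeroDivisors_of_mem_minimalPrimes hq |>.le_bot ⟨hcq, hc⟩
  have hinj : ∀ {c : R}, c ∈ nonZeroDivisors R → Function.Injective (lsmul R M c) := by
    intro c hc
    have : c ∈ ({r | IsSMulRegular M r}ᶜ)ᶜ := by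
      rw [← biUnion_associatedPrimes_eq_compl_regular]
      simp only [Set.mem_compl_iff, Set.mem_iUnion, SetLike.mem_coe, not_exists]
      exact fun q hq => hnotmin hc q (hMemb q hq)
    rwa [compl_compl] at this
  let m : PrimeSpectrum R := ⟨IsLocalRing.maximalIdeal R, inferInstance⟩
  have hm : m.asIdeal ∉ minimalPrimes R := fun h => by
    have h0 : Ring.KrullDimLE 0 R := Ring.krullDimLE_zero_iff.mpr fun J hJ => by
      have := h.2 ⟨hJ, bot_le⟩ (IsLocalRing.le_maximalIdeal hJ.ne_top)
      rw [le_antisymm (IsLocalRing.le_maximalIdeal hJ.ne_top) this]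
      exact IsLocalRing.maximalIdeal.isMaximal R
    have h2 := Ring.krullDimLE_iff.mp h0
    rw [hR] at h2
    norm_cast at h2
  have hclass : ∀ q : PrimeSpectrum R, q.asIdeal ∈ minimalPrimes R ↔
      q.asIdeal ≠ IsLocalRing.maximalIdeal R := fun q => by
    refine ⟨fun h e => hm (by rwa [show m.asIdeal = q.asIdeal from e.symm]), fun h => ?_⟩
    refine (Ring.krullDimLE_one_iff.mp ‹_› q.asIdeal q.isPrime).resolve_right fun hmax => h ?_
    exact hmax.eq_of_le (IsLocalRing.maximalIdeal.isMaximal R).ne_top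
      (IsLocalRing.le_maximalIdeal q.isPrime.ne_top)
  have h1 : Module.supportDim R M ≤ 1 := (Module.supportDim_le_ringKrullDim R M).trans hR.le
  have h0 : ∀ {c : R}, c ∈ nonZeroDivisors R →
      Module.supportDim R (M ⧸ c • (⊤ : Submodule R M)) ≤ 0 := by
    intro c hc
    have key : ∀ q ∈ Module.support R (M ⧸ c • (⊤ : Submodule R M)), q = m := by
      intro q hq
      rw [← Submodule.ideal_span_singleton_smul, Module.support_quotient] at hq
      have hcq : c ∈ q.asIdeal := hq.2 (Ideal.mem_span_singleton_self c)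
      exact PrimeSpectrum.ext (by_contra fun h => hnotmin hc _ ((hclass q).2 h) hcq)
    rw [Module.supportDim, Order.krullDim_nonpos_iff_forall_isMax]
    intro q p hqp
    rw [show q = p from Subtype.ext ((key q.1 q.2).trans (key p.1 p.2).symm)]
  have hr : ∀ c : R, range (lsmul R M c) = c • (⊤ : Submodule R M) := fun c => by
    rw [range_eq_map, Submodule.pointwise_smul_def]; rfl
  have hset : {q : PrimeSpectrum R | q.asIdeal ∈ minimalPrimes R}.Finite := Len90.finite_minimal
  have formula : ∀ {c : R}, c ∈ nonZeroDivisors R →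
      Module.length R (M ⧸ range (lsmul R M c)) =
        ∑ q ∈ hset.toFinset, Ring.ord (R ⧸ q.asIdeal) (Ideal.Quotient.mk q.asIdeal c) *
          Len90.locLen q.asIdeal M := by
    intro c hc
    rw [hr, length_quot_eq c h1 (h0 hc), ker_eq_bot.2 (hinj hc), Module.length_eq_zero, zero_add,
      ← finsum_mem_eq_finite_toFinset_sum _ hset]
    refine finsum_congr fun q => ?_
    exact finsum_congr_Prop (by simp [hsupp, hclass]) fun _ => rfl
  have finq : ∀ {c : R}, c ∈ nonZeroDivisors R → Module.length R (M ⧸ range (lsmul R M c)) < ⊤ :=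
    fun hc => length_coker_lt_top_aux h1 _ (hinj hc)
  set W := (Ideal.span {a} * I) • (⊤ : Submodule R M) with hWdef
  have hWb : W ≤ range (lsmul R M b) := by
    rw [hr, ← Submodule.ideal_span_singleton_smul]
    refine Submodule.smul_mono_left (Ideal.mul_le.2 fun x hx y hy => ?_)
    rw [hI] at hy
    rw [mul_comm]
    exact Submodule.mem_colon.1 hy x hx
  have hWa : W ≤ range (lsmul R M a) := by
    rw [hr, ← Submodule.ideal_span_singleton_smul]
    exact Submodule.smul_mono_left Ideal.mul_le_left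
  have hcomap : W.comap (lsmul R M a) = I • (⊤ : Submodule R M) := by
    have hW : W = (I • (⊤ : Submodule R M)).map (lsmul R M a) := by
      rw [hWdef, Submodule.mul_smul, Submodule.ideal_span_singleton_smul, Submodule.pointwise_smul_def]
      rfl
    rw [hW, Submodule.comap_map_eq_of_injective (hinj ha)]
  have eb := length_quot_of_le_range (lsmul R M b) (hinj hb) W hWb
  have ea := length_quot_of_le_range (lsmul R M a) (hinj ha) W hWa
  rw [← hP] at eb
  rw [hcomap] at ea
  have fI : Module.length R (M ⧸ I • (⊤ : Submodule R M)) < ⊤ := by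
    refine lt_of_le_of_lt (Module.length_le_of_surjective (Submodule.factor ?_)
      (Submodule.factor_surjective _)) (finq hb)
    rw [hr, ← Submodule.ideal_span_singleton_smul]
    refine Submodule.smul_mono_left ((Ideal.span_singleton_le_iff_mem _).2 ?_)
    rw [hI, Submodule.mem_colon]
    exact fun p _ => Ideal.mem_span_singleton.2 (Dvd.intro p (by rw [smul_eq_mul]))
  refine ⟨hWb, ?_⟩
  have fW : Module.length R (M ⧸ W) < ⊤ := ea ▸ ENat.add_lt_top.2 ⟨fI, finq ha⟩
  have fP : Module.length R (M ⧸ P) < ⊤ := lt_of_le_of_lt (eb ▸ le_self_add) fW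
  have e := congrArg ENat.toNat (eb.symm.trans ea)
  rw [toNat_add fP (finq hb), toNat_add fI (finq ha), formula ha, formula hb] at e
  have hfin : ∀ {c : R}, c ∈ nonZeroDivisors R → ∀ q ∈ hset.toFinset,
      Ring.ord (R ⧸ q.asIdeal) (Ideal.Quotient.mk q.asIdeal c) * Len90.locLen q.asIdeal M < ⊤ := by
    intro c hc q hq
    refine lt_of_le_of_lt ?_ (formula hc ▸ finq hc)
    exact Finset.single_le_sum (f := fun q : PrimeSpectrum R =>
      Ring.ord (R ⧸ q.asIdeal) (Ideal.Quotient.mk q.asIdeal c) * Len90.locLen q.asIdeal M)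
      (fun _ _ => zero_le) hq
  rw [toNat_finset_sum _ _ (hfin ha), toNat_finset_sum _ _ (hfin hb)] at e
  refine Eq.trans ?_ (finsum_mem_eq_finite_toFinset_sum _ hset).symm
  have e' : ((Module.length R (M ⧸ P)).toNat : ℤ) -
      ((Module.length R (M ⧸ I • (⊤ : Submodule R M))).toNat : ℤ) =
      (∑ q ∈ hset.toFinset, ((Ring.ord (R ⧸ q.asIdeal) (Ideal.Quotient.mk q.asIdeal a) *
          Len90.locLen q.asIdeal M).toNat : ℤ)) -
      ∑ q ∈ hset.toFinset, ((Ring.ord (R ⧸ q.asIdeal) (Ideal.Quotient.mk q.asIdeal b) *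
          Len90.locLen q.asIdeal M).toNat : ℤ) := by
    rw [← Nat.cast_sum, ← Nat.cast_sum]; omega
  rw [e', ← Finset.sum_sub_distrib]
  refine Finset.sum_congr rfl fun q hq => ?_
  have hqmin : q.asIdeal ∈ minimalPrimes R := hset.mem_toFinset.1 hq
  have : Ring.KrullDimLE 1 (R ⧸ q.asIdeal) := Ring.KrullDimLE.mk₁ fun J hJ => by
    have hJ' := hJ.comap (Ideal.Quotient.mk q.asIdeal)
    rcases Ring.krullDimLE_one_iff.mp ‹_› _ hJ' with h | h
    · left
      have hq' : q.asIdeal ≤ J.comap (Ideal.Quotient.mk q.asIdeal) := fun z hz => by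
        rw [Ideal.mem_comap, Ideal.Quotient.eq_zero_iff_mem.2 hz]; exact J.zero_mem
      have : J.comap (Ideal.Quotient.mk q.asIdeal) = q.asIdeal :=
        le_antisymm (h.2 ⟨q.isPrime, bot_le⟩ hq') hq'
      rw [← Ideal.map_comap_of_surjective _ Ideal.Quotient.mk_surjective J, this,
        Ideal.map_quotient_self, minimalPrimes_eq_minimals]
      exact ⟨Ideal.isPrime_bot, fun K _ _ => bot_le⟩
    · right
      rw [← Ideal.map_comap_of_surjective _ Ideal.Quotient.mk_surjective J]
      refine Ideal.IsMaximal.map_of_surjective_of_ker_le Ideal.Quotient.mk_surjective ?_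
      exact Ideal.ker_le_comap _
  have hne : ∀ {c : R}, c ∈ nonZeroDivisors R → Ideal.Quotient.mk q.asIdeal c ≠ 0 := fun hc h =>
    hnotmin hc _ hqmin (Ideal.Quotient.eq_zero_iff_mem.1 h)
  have hne' : ∀ {c : R}, c ∈ nonZeroDivisors R → algebraMap R q.asIdeal.ResidueField c ≠ 0 := fun hc h =>
    hnotmin hc _ hqmin (Ideal.algebraMap_residueField_eq_zero.1 h)
  rw [Len90.ordFrac_of_mul_eq _ _ _ (hne ha) (hne hb)]
  · simp only [ENat.toNat_mul]
    push_cast
    ring
  · rw [show algebraMap (R ⧸ q.asIdeal) q.asIdeal.ResidueField (Ideal.Quotient.mk q.asIdeal b) =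
      algebraMap R q.asIdeal.ResidueField b from rfl, div_mul_cancel₀ _ (hne' hb)]
    rfl

end Groth.Agent.CycAlg50
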